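import Mathlib
import Groth.Agent.GrCoreLib.EulerChar

/-!
# Euler characteristics of graded local cohomology of modules killed by a cofinite ideal in degree zero
-/

set_option autoImplicit false
set_option linter.style.haveILetI false
set_option linter.unusedSectionVars false
set_option maxHeartbeats 800000
universe u

open DirectSum GrInjLib Groth.Agent.GrCoreLib

namespace Groth.Agent.GrRedChiLib

/-- A submodule is the sum of its kernel part and its image. -/
theorem qlen_eq_inf_add_map' {A : Type u} [CommRing A] {X Y : Type u} [AddCommGroup X] [Module A X] [AddCommGroup Y]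
    [Module A Y] (f : X →ₗ[A] Y) (p : Submodule A X) (hne : Module.length A p ≠ ⊤) :
    qlen A p = qlen A ↥(p ⊓ LinearMap.ker f) + qlen A ↥(p.map f) := by
  let g : p →ₗ[A] ↥(p.map f) := (f ∘ₗ p.subtype).codRestrict _ fun x => ⟨x.1, x.2, rfl⟩
  let ι : ↥(p ⊓ LinearMap.ker f) →ₗ[A] p := Submodule.inclusion inf_le_left
  have hι : Function.Injective ι := Submodule.inclusion_injective _
  have hg : Function.Surjective g := fun y => by
    obtain ⟨x, hx, hxy⟩ := y.2
    exact ⟨⟨x, hx⟩, Subtype.ext hxy⟩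
  have hex : Function.Exact ι g := fun x => by
    constructor
    · intro h
      exact ⟨⟨x.1, x.2, congrArg Subtype.val h⟩, rfl⟩
    · rintro ⟨w, rfl⟩
      exact Subtype.ext w.2.2
  have h := Module.length_eq_add_of_exact ι g hι hg hex
  rw [qlen, qlen, qlen, h, ENat.toNat_add, Nat.cast_add]
  · exact ne_top_of_le_ne_top hne (h ▸ le_self_add)
  · exact ne_top_of_le_ne_top hne (h ▸ le_add_self)

/-- Finite length in the middle. -/
theorem length_ne_top_of_ker_range {A : Type u} [CommRing A] {X Y Z : Type u} [AddCommGroup X] [Module A X]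
    [AddCommGroup Y] [Module A Y] [AddCommGroup Z] [Module A Z] (u : X →ₗ[A] Y) (v : Y →ₗ[A] Z)
    (h : LinearMap.ker v = LinearMap.range u) (hX : Module.length A X ≠ ⊤) (hZ : Module.length A Z ≠ ⊤) :
    Module.length A Y ≠ ⊤ := by
  have h1 := Module.length_eq_add_of_exact (LinearMap.ker v).subtype v.rangeRestrict
    Subtype.val_injective v.surjective_rangeRestrict
    (LinearMap.exact_iff.2 (by rw [Submodule.range_subtype, LinearMap.ker_rangeRestrict]))
  rw [h1]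
  refine WithTop.add_ne_top.2 ⟨?_, ?_⟩
  · rw [h]
    exact ne_top_of_le_ne_top hX (Module.length_le_of_surjective u.rangeRestrict u.surjective_rangeRestrict)
  · exact ne_top_of_le_ne_top hZ (Module.length_le_of_injective (LinearMap.range v).subtype Subtype.val_injective)

variable {R : Type u} [CommRing R] {σ : Type u} [SetLike σ R] [AddSubgroupClass σ R] {𝒜 : ℤ → σ} [GradedRing 𝒜]
  [IsNoetherianRing R]

/-- The alternating sum of the lengths of the pieces. -/
noncomputable def sumH {M : Type u} [AddCommGroup M] [Module R M] {ℳ : ℤ → AddSubgroup M}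
    [Decomposition ℳ] [SetLike.GradedSMul 𝒜 ℳ] (E : GrLC.StarInjRes 𝒜 ℳ) (a : HomogeneousIdeal 𝒜)
    (N : ℕ) (g : ℤ) : ℚ :=
  ∑ i ∈ Finset.range (N + 1), (-1 : ℚ) ^ i * qlen (GrLC.deg0 𝒜) (E.Hcomp a i g)

theorem sumH_additive (a : HomogeneousIdeal 𝒜) {N : ℕ} {A B C : GrLC.GMod.{u} 𝒜}
    {f : A.carrier →ₗ[R] B.carrier} {g : B.carrier →ₗ[R] C.carrier} {d : ℤ}
    (hf : GrLC.IsGrHomDeg A.gr B.gr f d) (hg : GrLC.IsGrHom B.gr C.gr g) (hinj : Function.Injective f)
    (hex : ∀ b, g b = 0 ↔ ∃ x, f x = b) (hsurj : Function.Surjective g)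
    (EA : GrLC.StarInjRes 𝒜 A.gr) (EB : GrLC.StarInjRes 𝒜 B.gr) (EC : GrLC.StarInjRes 𝒜 C.gr) (e : ℤ)
    (hfA : ∀ i, Module.length (GrLC.deg0 𝒜) (EA.Hcomp a i e) ≠ ⊤)
    (hfB : ∀ i, Module.length (GrLC.deg0 𝒜) (EB.Hcomp a i (e + d)) ≠ ⊤)
    (hfC : ∀ i, Module.length (GrLC.deg0 𝒜) (EC.Hcomp a i (e + d)) ≠ ⊤)
    (hvan : ∀ i, N < i → EA.Hcomp a i e = ⊥) :
    sumH EB a N (e + d) = sumH EA a N e + sumH EC a N (e + d) := by
  classical
  let A₀ := GrLC.deg0 𝒜
  obtain ⟨Lf⟩ := exists_lift EA EB hf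
  obtain ⟨Lg⟩ := exists_lift EB EC ((isGrHom_iff B.gr C.gr).1 hg)
  obtain ⟨h0, δ, hδ, hB, hC, hA⟩ := exists_long_exact Lf Lg a hf hg hinj hex hsurj
  let rf : ℕ → ℚ := fun i => qlen A₀ ↥((EA.Hcomp a i e).map ((Lf.mapH a i).restrictScalars A₀))
  let rg : ℕ → ℚ := fun i => qlen A₀ ↥((EB.Hcomp a i (e + d)).map ((Lg.mapH a i).restrictScalars A₀))
  let rd : ℕ → ℚ := fun i => qlen A₀ ↥((EC.Hcomp a i (e + d)).map ((δ i).restrictScalars A₀))
  have eB : ∀ i, qlen A₀ (EB.Hcomp a i (e + d)) = rf i + rg i := fun i => by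
    rw [qlen_eq_inf_add_map' ((Lg.mapH a i).restrictScalars A₀) (EB.Hcomp a i (e + d)) (hfB i)]
    have h1 : EB.Hcomp a i (e + d) ⊓ LinearMap.ker ((Lg.mapH a i).restrictScalars A₀) =
        (EA.Hcomp a i e).map ((Lf.mapH a i).restrictScalars A₀) := by
      ext y
      constructor
      · rintro ⟨hy, hy0⟩
        obtain ⟨x, hx, hxy⟩ := exists_H_preimage a (Lf.mapH a i) (Lf.mapH_grHomDeg a i) hy ((hB i).le hy0)
        exact ⟨x, hx, hxy⟩
      · rintro ⟨x, hx, rfl⟩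
        exact ⟨Lf.mapH_grHomDeg a i e x hx, (hB i).ge ⟨x, rfl⟩⟩
    rw [h1]
  have eC : ∀ i, qlen A₀ (EC.Hcomp a i (e + d)) = rg i + rd i := fun i => by
    rw [qlen_eq_inf_add_map' ((δ i).restrictScalars A₀) (EC.Hcomp a i (e + d)) (hfC i)]
    have h1 : EC.Hcomp a i (e + d) ⊓ LinearMap.ker ((δ i).restrictScalars A₀) =
        (EB.Hcomp a i (e + d)).map ((Lg.mapH a i).restrictScalars A₀) := by
      ext y
      constructor
      · rintro ⟨hy, hy0⟩
        obtain ⟨x, hx, hxy⟩ := exists_H_preimage a (Lg.mapH a i) (Lg.mapH_grHomDeg a i)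
          (g := e + d) (by rw [add_zero]; exact hy) ((hC i).le hy0)
        exact ⟨x, hx, hxy⟩
      · rintro ⟨x, hx, rfl⟩
        have h := Lg.mapH_grHomDeg a i (e + d) x hx
        rw [add_zero] at h
        exact ⟨h, (hC i).ge ⟨x, rfl⟩⟩
    rw [h1]
  have eA0 : qlen A₀ (EA.Hcomp a 0 e) = rf 0 :=
    qlen_congr (Submodule.equivMapOfInjective ((Lf.mapH a 0).restrictScalars A₀) h0 _)
  have eA : ∀ i, qlen A₀ (EA.Hcomp a (i + 1) e) = rd i + rf (i + 1) := fun i => by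
    rw [qlen_eq_inf_add_map' ((Lf.mapH a (i + 1)).restrictScalars A₀) (EA.Hcomp a (i + 1) e) (hfA (i + 1))]
    have h1 : EA.Hcomp a (i + 1) e ⊓ LinearMap.ker ((Lf.mapH a (i + 1)).restrictScalars A₀) =
        (EC.Hcomp a i (e + d)).map ((δ i).restrictScalars A₀) := by
      ext y
      constructor
      · rintro ⟨hy, hy0⟩
        obtain ⟨x, hx, hxy⟩ := exists_H_preimage a (δ i) (hδ i) (g := e + d)
          (by rw [add_neg_cancel_right]; exact hy) ((hA i).le hy0)
        exact ⟨x, hx, hxy⟩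
      · rintro ⟨x, hx, rfl⟩
        have h := hδ i (e + d) x hx
        rw [add_neg_cancel_right] at h
        exact ⟨h, (hA i).ge ⟨x, rfl⟩⟩
    rw [h1]
  have hlast : rd N = 0 := by
    refine qlen_eq_zero_of_bot ((Submodule.eq_bot_iff _).2 ?_)
    rintro _ ⟨x, hx, rfl⟩
    have h := hδ N (e + d) x hx
    rw [add_neg_cancel_right] at h
    exact (Submodule.eq_bot_iff _).1 (hvan (N + 1) (Nat.lt_succ_self N)) _ h
  have key : ∀ k : ℕ, ∑ i ∈ Finset.range (k + 1), (-1 : ℚ) ^ i *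
      (qlen A₀ (EA.Hcomp a i e) + qlen A₀ (EC.Hcomp a i (e + d)) - qlen A₀ (EB.Hcomp a i (e + d))) =
        (-1 : ℚ) ^ k * rd k := by
    intro k
    induction k with
    | zero => rw [Finset.sum_range_one, eA0, eB, eC]; ring
    | succ k ih => rw [Finset.sum_range_succ, ih, eA, eB, eC, pow_succ]; ring
  have hk := key N
  rw [hlast, mul_zero] at hk
  simp only [mul_sub, mul_add, Finset.sum_sub_distrib, Finset.sum_add_distrib] at hk
  unfold sumH
  linarith

/-- A finite module killed by a cofinite ideal has finite length. -/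
theorem length_ne_top_of_kill {A : Type u} [CommRing A] (J : Ideal A) [IsArtinianRing (A ⧸ J)] {X : Type u}
    [AddCommGroup X] [Module A X] [Module.Finite A X] (h : ∀ c ∈ J, ∀ v : X, c • v = 0) :
    Module.length A X ≠ ⊤ := by
  have hT : Module.IsTorsionBySet A X (J : Set A) := fun v c => h c c.2 v
  letI : Module (A ⧸ J) X := hT.module
  haveI : IsScalarTower A (A ⧸ J) X := Module.IsTorsionBySet.isScalarTower _
  rw [Module.length_eq_of_surjective (R := A ⧸ J) (S := A) (M := X) Ideal.Quotient.mk_surjective,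
    Module.length_ne_top_iff, isFiniteLength_iff_isNoetherian_isArtinian]
  haveI : Module.Finite (A ⧸ J) X := Module.Finite.of_restrictScalars_finite A _ _
  exact ⟨inferInstance, inferInstance⟩

variable (hpos : ∀ n : ℤ, n < 0 → ∀ x ∈ 𝒜 n, x = 0) (a : HomogeneousIdeal 𝒜)
  (ha : a.toIdeal = Ideal.span (⋃ n ∈ Set.Ioi (0 : ℤ), (𝒜 n : Set R))) {N : ℕ}
  (hN : ∀ (X : GrLC.GMod.{u} 𝒜) (E : GrLC.StarInjRes 𝒜 X.gr) (i : ℕ), N < i → ∀ g, E.Hcomp a i g = ⊥)
  (J₀ : Ideal (GrLC.deg0 𝒜)) [IsArtinianRing (GrLC.deg0 𝒜 ⧸ J₀)]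

/-- The characteristic. -/
noncomputable def chiK {M : Type u} [AddCommGroup M] [Module R M] {ℳ : ℤ → AddSubgroup M}
    [Decomposition ℳ] [SetLike.GradedSMul 𝒜 ℳ] (E : GrLC.StarInjRes 𝒜 ℳ) (a : HomogeneousIdeal 𝒜)
    (N : ℕ) (g : ℤ) : ℚ :=
  qlen (GrLC.deg0 𝒜) (GrLC.comp 𝒜 ℳ g) - sumH E a N g

omit [IsNoetherianRing R] in
/-- Cohomology is killed by what kills the module. -/
theorem smul_H_eq_zero {X : GrLC.GMod.{u} 𝒜} (E : GrLC.StarInjRes 𝒜 X.gr) (a : HomogeneousIdeal 𝒜) (c : GrLC.deg0 𝒜)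
    (hc : ∀ v : X.carrier, (c : R) • v = 0) (i : ℕ) (y : E.H a i) : (c : R) • y = 0 := by
  let L0 : Lift E E (0 : X.carrier →ₗ[R] X.carrier) 0 :=
    { ψ := fun n => 0
      deg := fun n j x _ => zero_mem _
      comm0 := by simp
      comm := fun n => by simp }
  let L1 : Lift E E (0 : X.carrier →ₗ[R] X.carrier) 0 :=
    { ψ := fun n => (c : R) • LinearMap.id
      deg := fun n j x hx => by
        rw [add_zero]
        have := smul_mem 𝒜 (E.X n).gr (show (c : R) ∈ 𝒜 0 from c.2) hx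
        rwa [zero_add] at this
      comm0 := LinearMap.ext fun x => by
        show (c : R) • E.ε x = E.ε 0
        rw [← map_smul, hc]
      comm := fun n => LinearMap.ext fun x => (map_smul (E.d n) (c : R) x).symm }
  have := LinearMap.congr_fun (Lift.mapH_eq a L0 L1 i) y
  obtain ⟨z, rfl⟩ := Submodule.mkQ_surjective _ y
  exact this.symm.trans ((congrArg (E.toH a i) (Subtype.ext rfl : L0.mapZ a i z = 0)).trans (map_zero _))

include hpos ha in
theorem length_Hcomp_ne_top (X : GrLC.GMod.{u} 𝒜) [Module.Finite R X.carrier]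
    (hX : ∀ c ∈ J₀, ∀ v : X.carrier, (c : R) • v = 0) (E : GrLC.StarInjRes 𝒜 X.gr) (i : ℕ) (g : ℤ) :
    Module.length (GrLC.deg0 𝒜) (E.Hcomp a i g) ≠ ⊤ := by
  haveI := (pieces_finite_vanish hpos a ha i X E).1 g
  exact length_ne_top_of_kill J₀ fun c hc v => Subtype.ext (smul_H_eq_zero E a c (hX c hc) i v.1)

theorem length_comp_ne_top (X : GrLC.GMod.{u} 𝒜) [Module.Finite R X.carrier]
    (hX : ∀ c ∈ J₀, ∀ v : X.carrier, (c : R) • v = 0) (g : ℤ) :
    Module.length (GrLC.deg0 𝒜) (GrLC.comp 𝒜 X.gr g) ≠ ⊤ := by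
  haveI := isNoetherian_comp 𝒜 X.gr g
  exact length_ne_top_of_kill J₀ fun c hc v => Subtype.ext (hX c hc v.1)

include hpos ha hN in
theorem chiK_additive {A B C : GrLC.GMod.{u} 𝒜} [Module.Finite R A.carrier] [Module.Finite R B.carrier]
    [Module.Finite R C.carrier] {f : A.carrier →ₗ[R] B.carrier} {g : B.carrier →ₗ[R] C.carrier} {d : ℤ}
    (hf : GrLC.IsGrHomDeg A.gr B.gr f d) (hg : GrLC.IsGrHom B.gr C.gr g) (hinj : Function.Injective f)
    (hex : ∀ b, g b = 0 ↔ ∃ x, f x = b) (hsurj : Function.Surjective g)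
    (hA : ∀ c ∈ J₀, ∀ v : A.carrier, (c : R) • v = 0) (hB : ∀ c ∈ J₀, ∀ v : B.carrier, (c : R) • v = 0)
    (hC : ∀ c ∈ J₀, ∀ v : C.carrier, (c : R) • v = 0)
    (EA : GrLC.StarInjRes 𝒜 A.gr) (EB : GrLC.StarInjRes 𝒜 B.gr) (EC : GrLC.StarInjRes 𝒜 C.gr) (e : ℤ) :
    chiK EB a N (e + d) = chiK EA a N e + chiK EC a N (e + d) := by
  let A₀ := GrLC.deg0 𝒜
  have hmod : qlen A₀ (GrLC.comp 𝒜 B.gr (e + d)) =
      qlen A₀ (GrLC.comp 𝒜 A.gr e) + qlen A₀ (GrLC.comp 𝒜 C.gr (e + d)) := by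
    rw [qlen_eq_inf_add_map' (g.restrictScalars A₀) (GrLC.comp 𝒜 B.gr (e + d)) (length_comp_ne_top J₀ B hB (e + d))]
    have h1 : GrLC.comp 𝒜 B.gr (e + d) ⊓ LinearMap.ker (g.restrictScalars A₀) =
        (GrLC.comp 𝒜 A.gr e).map (f.restrictScalars A₀) := by
      ext y
      constructor
      · rintro ⟨hy, hy0⟩
        obtain ⟨x, hx, hxy⟩ := exists_preimage_piece A.gr B.gr hf hy ((hex y).1 hy0)
        exact ⟨x, hx, hxy⟩
      · rintro ⟨x, hx, rfl⟩
        exact ⟨hf e x hx, (hex _).2 ⟨x, rfl⟩⟩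
    have h2 : (GrLC.comp 𝒜 B.gr (e + d)).map (g.restrictScalars A₀) = GrLC.comp 𝒜 C.gr (e + d) := by
      ext y
      constructor
      · rintro ⟨x, hx, rfl⟩
        exact hg _ x hx
      · intro hy
        obtain ⟨x, hx, hxy⟩ := exists_preimage_piece B.gr C.gr (d := 0) ((isGrHom_iff _ _).1 hg) (g := e + d)
          (by rw [add_zero]; exact hy) (hsurj y)
        exact ⟨x, hx, hxy⟩
    rw [h1, h2]
    congr 1
    exact (qlen_congr (Submodule.equivMapOfInjective (f.restrictScalars A₀) hinj _)).symm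
  have h := sumH_additive (N := N) a hf hg hinj hex hsurj EA EB EC e
    (fun i => length_Hcomp_ne_top hpos a ha J₀ A hA EA i e) (fun i => length_Hcomp_ne_top hpos a ha J₀ B hB EB i _)
    (fun i => length_Hcomp_ne_top hpos a ha J₀ C hC EC i _) (fun i hi => hN A EA i hi e)
  unfold chiK
  linarith

theorem chiK_torsion (X : GrLC.GMod.{u} 𝒜) (htor : GrLC.gam a.toIdeal X.carrier = ⊤)
    (E : GrLC.StarInjRes 𝒜 X.gr) (g : ℤ) : chiK E a N g = 0 := by
  have hε : ∀ y : X.carrier, E.ε y ∈ E.cocyc a 0 := fun y =>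
    ⟨map_gam E.ε a.toIdeal (htor.ge Submodule.mem_top), E.exact_zero.ge ⟨y, rfl⟩⟩
  let φ : GrLC.comp 𝒜 X.gr g →ₗ[GrLC.deg0 𝒜] E.Hcomp a 0 g :=
    { toFun := fun y => ⟨E.toH a 0 ⟨E.ε y.1, hε y.1⟩, ⟨E.ε y.1, hε y.1⟩, E.ε_grHom g y.1 y.2, rfl⟩
      map_add' := fun y z => Subtype.ext (by
        show E.toH a 0 _ = E.toH a 0 _ + E.toH a 0 _
        rw [← map_add]
        exact congrArg (E.toH a 0) (Subtype.ext (map_add E.ε _ _)))
      map_smul' := fun c y => Subtype.ext (by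
        show E.toH a 0 _ = (c : R) • E.toH a 0 _
        rw [← map_smul]
        exact congrArg (E.toH a 0) (Subtype.ext (map_smul E.ε (c : R) _))) }
  have hφ : Function.Bijective φ := by
    refine ⟨(injective_iff_map_eq_zero φ).2 fun y hy => ?_, ?_⟩
    · have h0 : E.toH a 0 ⟨E.ε y.1, hε y.1⟩ = 0 := congrArg Subtype.val hy
      have h1 : E.ε y.1 = 0 := (Submodule.Quotient.mk_eq_zero
        ((E.cobdy a 0).comap (E.cocyc a 0).subtype)).1 h0
      exact Subtype.ext (E.ε_injective (h1.trans (map_zero E.ε).symm))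
    · rintro ⟨_, z, hz, rfl⟩
      obtain ⟨y, hy, hyz⟩ := exists_preimage_piece X.gr (E.X 0).gr (d := 0) (g := g)
        ((isGrHom_iff _ _).1 E.ε_grHom) (by rw [add_zero]; exact hz) (E.exact_zero.le z.2.2)
      exact ⟨⟨y, hy⟩, Subtype.ext (congrArg (E.toH a 0) (Subtype.ext hyz))⟩
  unfold chiK sumH
  rw [Finset.sum_range_succ', Finset.sum_eq_zero fun i _ => by
    rw [qlen_eq_zero_of_bot (van_of_torsion htor i g E), mul_zero], pow_zero, one_mul,
    qlen_congr (LinearEquiv.ofBijective φ hφ)]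
  ring

include hpos ha hN in
/-- The characteristic of a finite killed module is polynomial. -/
theorem exists_poly_chiK (hstd : a.toIdeal = Ideal.span ((𝒜 1 : σ) : Set R))
    (X : GrLC.GMod.{u} 𝒜) [Module.Finite R X.carrier] (hX : ∀ c ∈ J₀, ∀ v : X.carrier, (c : R) • v = 0)
    (E : GrLC.StarInjRes 𝒜 X.gr) :
    ∃ Q : Polynomial ℚ, ∀ g : ℤ, chiK E a N g = Q.eval (g : ℚ) := by
  classical
  obtain ⟨S, hS, hspan⟩ := exists_linear_generators hstd
  suffices key : ∀ U : Finset R, U ⊆ S → ∀ (X : GrLC.GMod.{u} 𝒜) [Module.Finite R X.carrier],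
      (∀ c ∈ J₀, ∀ v : X.carrier, (c : R) • v = 0) → (∀ s ∈ S, s ∉ U → ∀ v : X.carrier, s • v = 0) → ∀ E : GrLC.StarInjRes 𝒜 X.gr,
        ∃ Q : Polynomial ℚ, ∀ g : ℤ, chiK E a N g = Q.eval (g : ℚ) from
    key S subset_rfl X hX (fun s hs hn => absurd hs hn) E
  intro U
  induction U using Finset.induction_on with
  | empty =>
    intro _ X _ hJ hkill E
    refine ⟨0, fun g => ?_⟩
    rw [Polynomial.eval_zero]
    refine chiK_torsion a X (eq_top_iff.2 fun v _ => ⟨1, fun r hr => ?_⟩) E g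
    rw [pow_one, hspan] at hr
    induction hr using Submodule.span_induction with
    | mem s hs => exact hkill s hs (Finset.notMem_empty s) v
    | zero => exact zero_smul R v
    | add p q _ _ hp hq => rw [add_smul, hp, hq, add_zero]
    | smul c p _ hp => rw [smul_eq_mul, mul_smul, hp, smul_zero]
  | insert x U hxU ih =>
    intro hUS X _ hJ hkill E
    rw [Finset.insert_subset_iff] at hUS
    have hx : x ∈ 𝒜 1 := hS x hUS.1
    haveI : IsNoetherian R X.carrier := isNoetherian_of_isNoetherianRing_of_finite R X.carrier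
    let f : X.carrier →ₗ[R] X.carrier := x • (LinearMap.id : X.carrier →ₗ[R] X.carrier)
    have hf : GrLC.IsGrHomDeg X.gr X.gr f 1 := fun b z hz => by
      show x • z ∈ X.gr (b + 1)
      rw [add_comm]
      exact smul_mem 𝒜 X.gr hx hz
    have hK : (LinearMap.ker f).IsHomogeneous X.gr := ker_homogeneous X.gr X.gr hf
    have hI : (LinearMap.range f).IsHomogeneous X.gr := range_homogeneous X.gr X.gr hf
    let K := subG 𝒜 X.gr hK
    let Q := quotG 𝒜 X.gr hK
    let C := quotG 𝒜 X.gr hI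
    haveI : Module.Finite R K.carrier := Module.Finite.of_injective (subIncl 𝒜 X.gr hK) (subIncl_injective 𝒜 X.gr hK)
    haveI : Module.Finite R Q.carrier := Module.Finite.of_surjective (quotMk 𝒜 X.gr hK) (quotMk_surjective 𝒜 X.gr hK)
    haveI : Module.Finite R C.carrier := Module.Finite.of_surjective (quotMk 𝒜 X.gr hI) (quotMk_surjective 𝒜 X.gr hI)
    have hkK : ∀ s ∈ S, s ∉ U → ∀ v : K.carrier, s • v = 0 := fun s hs hn v => by
      refine subIncl_injective 𝒜 X.gr hK ?_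
      rw [map_smul, map_zero]
      by_cases h : s = x
      · subst h; exact LinearMap.mem_ker.1 (subIncl_mem 𝒜 X.gr hK v)
      · exact hkill s hs (by simp [h, hn]) _
    have hkC : ∀ s ∈ S, s ∉ U → ∀ v : C.carrier, s • v = 0 := fun s hs hn v => by
      obtain ⟨w, rfl⟩ := quotMk_surjective 𝒜 X.gr hI v
      rw [← map_smul]
      by_cases h : s = x
      · subst h; exact LinearMap.mem_ker.1 ((ker_quotMk 𝒜 X.gr hI).ge ⟨w, rfl⟩)
      · rw [hkill s hs (by simp [h, hn]), map_zero]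
    obtain ⟨EK⟩ := exists_starInjRes 𝒜 K.gr
    obtain ⟨EQ⟩ := exists_starInjRes 𝒜 Q.gr
    obtain ⟨EC⟩ := exists_starInjRes 𝒜 C.gr
    have hJK : ∀ c ∈ J₀, ∀ v : K.carrier, (c : R) • v = 0 := fun c hc v => subIncl_injective 𝒜 X.gr hK (by
      rw [map_smul, map_zero]; exact hJ c hc _)
    have hJQ : ∀ c ∈ J₀, ∀ v : Q.carrier, (c : R) • v = 0 := fun c hc v => by
      obtain ⟨w, rfl⟩ := quotMk_surjective 𝒜 X.gr hK v
      rw [← map_smul, hJ c hc, map_zero]
    have hJC : ∀ c ∈ J₀, ∀ v : C.carrier, (c : R) • v = 0 := fun c hc v => by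
      obtain ⟨w, rfl⟩ := quotMk_surjective 𝒜 X.gr hI v
      rw [← map_smul, hJ c hc, map_zero]
    obtain ⟨PK, hPK⟩ := ih hUS.2 K hJK hkK EK
    obtain ⟨PC, hPC⟩ := ih hUS.2 C hJC hkC EC
    let j : Q.carrier →ₗ[R] X.carrier := (LinearMap.ker f).liftQ f le_rfl
    have hjq : ∀ w, j (quotMk 𝒜 X.gr hK w) = f w := fun w => rfl
    have hj : GrLC.IsGrHomDeg Q.gr X.gr j 1 := by
      rintro b _ ⟨w, hw, rfl⟩
      exact hf b w hw
    have h1 : ∀ g, chiK E a N g = chiK EK a N g + chiK EQ a N g := fun g => by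
      have := chiK_additive hpos a ha hN J₀ (A := K) (B := X) (C := Q) (f := subIncl 𝒜 X.gr hK) (g := quotMk 𝒜 X.gr hK)
        ((isGrHom_iff _ _).1 (subIncl_grHom 𝒜 X.gr hK)) (quotMk_grHom 𝒜 X.gr hK) (subIncl_injective 𝒜 X.gr hK)
        (fun b => by rw [← LinearMap.mem_ker, ker_quotMk, ← LinearMap.mem_range, range_subIncl])
        (quotMk_surjective 𝒜 X.gr hK) hJK hJ hJQ EK E EQ g
      rwa [add_zero] at this
    have h2 : ∀ g, chiK E a N (g + 1) = chiK EQ a N g + chiK EC a N (g + 1) := fun g =>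
      chiK_additive hpos a ha hN J₀ (A := Q) (B := X) (C := C) (f := j) (g := quotMk 𝒜 X.gr hI) hj
        (quotMk_grHom 𝒜 X.gr hI)
        (LinearMap.ker_eq_bot.1 (Submodule.ker_liftQ_eq_bot _ _ _ le_rfl))
        (fun b => by
          rw [← LinearMap.mem_ker, ker_quotMk]
          constructor
          · rintro ⟨w, rfl⟩; exact ⟨quotMk 𝒜 X.gr hK w, hjq w⟩
          · rintro ⟨v, rfl⟩
            obtain ⟨w, rfl⟩ := quotMk_surjective 𝒜 X.gr hK v
            exact ⟨w, (hjq w).symm⟩)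
        (quotMk_surjective 𝒜 X.gr hI) hJQ hJ hJC EQ E EC g
    refine exists_poly_of_diff _ (PC.comp (Polynomial.X + 1) - PK) fun g => ?_
    rw [h2, h1 g, hPK, hPC, Polynomial.eval_sub, Polynomial.eval_comp, Polynomial.eval_add, Polynomial.eval_X,
      Polynomial.eval_one]
    push_cast
    ring

include hpos ha hN in
/-- The alternating sum along `0 → P → X → G → 0` shifted by one, with `P → X` an isomorphism in positive degrees. -/
theorem exists_poly_diff (hstd : a.toIdeal = Ideal.span ((𝒜 1 : σ) : Set R))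
    {P X C G : GrLC.GMod.{u} 𝒜} [Module.Finite R X.carrier] [Module.Finite R G.carrier]
    {ι : P.carrier →ₗ[R] X.carrier} {q : X.carrier →ₗ[R] C.carrier}
    (hι : GrLC.IsGrHomDeg P.gr X.gr ι 0) (hq : GrLC.IsGrHom X.gr C.gr q) (hιinj : Function.Injective ι)
    (hιex : ∀ b, q b = 0 ↔ ∃ x, ι x = b) (hqs : Function.Surjective q)
    (hCtor : GrLC.gam a.toIdeal C.carrier = ⊤) (hC0 : ∀ n : ℤ, 1 ≤ n → ∀ x ∈ C.gr n, x = 0)
    {φ : P.carrier →ₗ[R] X.carrier} {π : X.carrier →ₗ[R] G.carrier}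
    (hφ : GrLC.IsGrHomDeg P.gr X.gr φ (-1)) (hπ : GrLC.IsGrHom X.gr G.gr π) (hφinj : Function.Injective φ)
    (hφex : ∀ b, π b = 0 ↔ ∃ x, φ x = b) (hπs : Function.Surjective π)
    (hG : ∀ c ∈ J₀, ∀ v : G.carrier, (c : R) • v = 0)
    (E : GrLC.StarInjRes 𝒜 X.gr) :
    ∃ Q : Polynomial ℚ, (∀ n : ℤ, 0 ≤ n →
        sumH E a N (n + 1) - sumH E a N n = Q.eval (n : ℚ) - qlen (GrLC.deg0 𝒜) (GrLC.comp 𝒜 G.gr n)) ∧
      ∀ (i : ℕ) (n : ℤ), 0 ≤ n → Module.length (GrLC.deg0 𝒜) (E.Hcomp a i n) ≠ ⊤ := by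
  obtain ⟨EP⟩ := exists_starInjRes 𝒜 P.gr
  obtain ⟨EC⟩ := exists_starInjRes 𝒜 C.gr
  obtain ⟨EG⟩ := exists_starInjRes 𝒜 G.gr
  obtain ⟨Lι⟩ := exists_lift EP E hι
  obtain ⟨Lq⟩ := exists_lift E EC ((isGrHom_iff _ _).1 hq)
  obtain ⟨h0, δ, hδ, hB, -, hA⟩ := exists_long_exact Lι Lq a hι hq hιinj hιex hqs
  have hCv : ∀ (i : ℕ) (n : ℤ), 1 ≤ n → EC.Hcomp a i n = ⊥ := by
    intro i n hn
    cases i with
    | succ i => exact van_of_torsion hCtor i n EC
    | zero =>
      obtain ⟨ψ, hψ⟩ := exists_gam_piece_surjective EC a n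
      refine (Submodule.eq_bot_iff _).2 fun z hz => ?_
      obtain ⟨⟨y, hy1, hy2⟩, hy⟩ := hψ ⟨z, hz⟩
      have h0 : y = 0 := hC0 n hn y hy2
      subst h0
      have := congrArg Subtype.val hy
      rw [show (⟨(0 : C.carrier), hy1, hy2⟩ :
        ↥((GrLC.gam a.toIdeal C.carrier).restrictScalars (GrLC.deg0 𝒜) ⊓ GrLC.comp 𝒜 C.gr n)) = 0 from rfl,
        map_zero] at this
      exact this.symm
  have hequiv : ∀ (i : ℕ) (n : ℤ), 1 ≤ n →
      Nonempty (EP.Hcomp a i n ≃ₗ[GrLC.deg0 𝒜] E.Hcomp a i n) := by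
    intro i n hn
    refine ⟨LinearEquiv.ofBijective (pieceMap a (Lι.mapH a i) (Lι.mapH_grHomDeg a i) (add_zero n)) ⟨?_, ?_⟩⟩
    · rw [injective_iff_map_eq_zero]
      rintro ⟨y, hy⟩ hy0
      have hy0' : Lι.mapH a i y = 0 := congrArg Subtype.val hy0
      refine Subtype.ext ?_
      show y = 0
      cases i with
      | zero => exact h0 (hy0'.trans (map_zero _).symm)
      | succ i =>
        obtain ⟨w, hw, hwy⟩ := exists_H_preimage a (δ i) (hδ i) (g := n)
          (by rw [neg_zero, add_zero]; exact hy) ((hA i).le (LinearMap.mem_ker.2 hy0'))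
        rw [hCv i n hn, Submodule.mem_bot] at hw
        show y = 0
        rw [← hwy, hw, map_zero]
    · rintro ⟨y, hy⟩
      have h1 := Lq.mapH_grHomDeg a i n y hy
      rw [add_zero] at h1
      have h2 : Lq.mapH a i y = 0 := by
        have : Lq.mapH a i y ∈ EC.Hcomp a i n := h1
        rwa [hCv i n hn, Submodule.mem_bot] at this
      obtain ⟨x, hx, hxy⟩ := exists_H_preimage a (Lι.mapH a i) (Lι.mapH_grHomDeg a i) (g := n)
        (by rw [add_zero]; exact hy) ((hB i).le (LinearMap.mem_ker.2 h2))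
      exact ⟨⟨x, hx⟩, Subtype.ext hxy⟩
  obtain ⟨Lφ⟩ := exists_lift EP E hφ
  obtain ⟨Lπ⟩ := exists_lift E EG ((isGrHom_iff _ _).1 hπ)
  obtain ⟨-, δ', hδ', hB', -, -⟩ := exists_long_exact Lφ Lπ a hφ hπ hφinj hφex hπs
  have hfl : ∀ (i : ℕ) (n : ℤ), 0 ≤ n → Module.length (GrLC.deg0 𝒜) (E.Hcomp a i n) ≠ ⊤ := by
    intro i
    obtain ⟨r, hr⟩ := (pieces_finite_vanish hpos a ha i X E).2
    intro n hn
    induction h : (r - n).toNat using Nat.strong_induction_on generalizing n with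
    | _ k ih =>
      by_cases hrn : r ≤ n
      · rw [hr n hrn]; simp
      obtain ⟨e⟩ := hequiv i (n + 1) (by omega)
      have hP : Module.length (GrLC.deg0 𝒜) (EP.Hcomp a i (n + 1)) ≠ ⊤ := by
        rw [e.length_eq]; exact ih _ (by omega) (n + 1) (by omega) rfl
      let u' := pieceMap a (Lφ.mapH a i) (Lφ.mapH_grHomDeg a i) (show n + 1 + -1 = n by omega)
      let v' := pieceMap a (Lπ.mapH a i) (Lπ.mapH_grHomDeg a i) (add_zero n)
      have hex : LinearMap.ker v' = LinearMap.range u' := by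
        refine le_antisymm ?_ ?_
        · rintro ⟨y, hy⟩ hy0
          have hy0' : Lπ.mapH a i y = 0 := congrArg Subtype.val (LinearMap.mem_ker.1 hy0)
          obtain ⟨w, hw, hwy⟩ := exists_H_preimage a (Lφ.mapH a i) (Lφ.mapH_grHomDeg a i) (g := n + 1)
            (by rw [show n + 1 + -1 = n by omega]; exact hy) ((hB' i).le (LinearMap.mem_ker.2 hy0'))
          exact ⟨⟨w, hw⟩, Subtype.ext hwy⟩
        · rintro _ ⟨w, rfl⟩
          exact LinearMap.mem_ker.2 (Subtype.ext ((hB' i).ge ⟨(w : EP.H a i), rfl⟩))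
      refine length_ne_top_of_ker_range u' v' hex hP
        (length_Hcomp_ne_top hpos a ha J₀ G hG EG i n)
  have hsP : ∀ n : ℤ, 1 ≤ n → sumH EP a N n = sumH E a N n := fun n hn => Finset.sum_congr rfl fun i _ => by
    obtain ⟨e⟩ := hequiv i n hn
    rw [qlen_congr e]
  obtain ⟨Q, hQ⟩ := exists_poly_chiK hpos a ha hN J₀ hstd G hG EG
  refine ⟨Q, fun n hn => ?_, hfl⟩
  have h := sumH_additive (N := N) a hφ hπ hφinj hφex hπs EP E EG (n + 1)
    (fun i => by
      obtain ⟨e⟩ := hequiv i (n + 1) (by omega)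
      rw [e.length_eq]; exact hfl i (n + 1) (by omega))
    (fun i => hfl i _ (by omega)) (fun i => length_Hcomp_ne_top hpos a ha J₀ G hG EG i _)
    (fun i hi => hN P EP i hi _)
  rw [show n + 1 + -1 = n by omega, hsP (n + 1) (by omega)] at h
  have hQn := hQ n
  unfold chiK at hQn
  linarith

end Groth.Agent.GrRedChiLib
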