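import Mathlib
import Groth.Agent.GrRedChiLib.Core

/-! Assembly for a submodule with a degree lowering map. -/

set_option autoImplicit false
set_option linter.style.haveILetI false
set_option linter.unusedSectionVars false
set_option maxHeartbeats 800000
universe u

open DirectSum GrInjLib Groth.Agent.GrCoreLib

namespace Groth.Agent.GrRedChiLib

variable {R : Type u} [CommRing R] {σ : Type u} [SetLike σ R] [AddSubgroupClass σ R] {𝒜 : ℤ → σ} [GradedRing 𝒜]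
  [IsNoetherianRing R] {X : Type u} [AddCommGroup X] [Module R X] [Module.Finite R X]
  {𝒳 : ℤ → AddSubgroup X} [Decomposition 𝒳] [SetLike.GradedSMul 𝒜 𝒳]

theorem exists_diff_of_shift (hpos : ∀ n : ℤ, n < 0 → ∀ x ∈ 𝒜 n, x = 0) (a : HomogeneousIdeal 𝒜)
    (ha : a.toIdeal = Ideal.span (⋃ n ∈ Set.Ioi (0 : ℤ), (𝒜 n : Set R)))
    (hstd : a.toIdeal = Ideal.span ((𝒜 1 : σ) : Set R)) {N : ℕ}
    (hN : ∀ (X : GrLC.GMod.{u} 𝒜) (E : GrLC.StarInjRes 𝒜 X.gr) (i : ℕ), N < i → ∀ g, E.Hcomp a i g = ⊥)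
    (J₀ : Ideal (GrLC.deg0 𝒜)) [IsArtinianRing (GrLC.deg0 𝒜 ⧸ J₀)]
    (P : Submodule R X) (hP : P.IsHomogeneous 𝒳) (φ : P →ₗ[R] X)
    (hdeg : ∀ g : ℤ, ∀ x : P, (x : X) ∈ 𝒳 g → φ x ∈ 𝒳 (g + -1)) (hinj : Function.Injective φ)
    (hkill : ∀ c ∈ J₀, ∀ y : X, (c : R) • y ∈ LinearMap.range φ)
    (htor : ∀ r ∈ a.toIdeal, ∀ y : X, r • y ∈ P) (hzero : ∀ k : ℤ, 1 ≤ k → ∀ y ∈ 𝒳 k, y ∈ P)
    (E : GrLC.StarInjRes 𝒜 𝒳) :
    ∃ Q : Polynomial ℚ, (∀ n : ℤ, 0 ≤ n → sumH E a N (n + 1) - sumH E a N n = Q.eval (n : ℚ) -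
        qlen (GrLC.deg0 𝒜) ↥((GrLC.comp 𝒜 𝒳 n).map ((LinearMap.range φ).mkQ.restrictScalars (GrLC.deg0 𝒜)))) ∧
      (∀ (i : ℕ) (n : ℤ), 0 ≤ n → Module.length (GrLC.deg0 𝒜) (E.Hcomp a i n) ≠ ⊤) ∧
      ∀ i, ∃ r : ℤ, ∀ n, r ≤ n → E.Hcomp a i n = ⊥ := by
  let XX : GrLC.GMod.{u} 𝒜 := GrLC.GMod.of 𝒜 X 𝒳
  haveI : Module.Finite R XX.carrier := inferInstanceAs (Module.Finite R X)
  let PP := subG 𝒜 𝒳 hP
  let C := quotG 𝒜 𝒳 hP
  let φ' : PP.carrier →ₗ[R] XX.carrier := φ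
  have hφ : GrLC.IsGrHomDeg PP.gr XX.gr φ' (-1) := fun g x hx => hdeg g x hx
  have hrh : (LinearMap.range φ').IsHomogeneous XX.gr := range_homogeneous PP.gr XX.gr hφ
  let G := quotG 𝒜 XX.gr hrh
  haveI : Module.Finite R G.carrier :=
    Module.Finite.of_surjective (quotMk 𝒜 XX.gr hrh) (quotMk_surjective 𝒜 XX.gr hrh)
  obtain ⟨Q, h1, h2⟩ := exists_poly_diff hpos a ha hN J₀ hstd (P := PP) (X := XX) (C := C) (G := G)
    (ι := subIncl 𝒜 𝒳 hP) (q := quotMk 𝒜 𝒳 hP)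
    ((isGrHom_iff _ _).1 (subIncl_grHom 𝒜 𝒳 hP)) (quotMk_grHom 𝒜 𝒳 hP) (subIncl_injective 𝒜 𝒳 hP)
    (fun b => SetLike.ext_iff.1 ((ker_quotMk 𝒜 𝒳 hP).trans (range_subIncl 𝒜 𝒳 hP).symm) b)
    (quotMk_surjective 𝒜 𝒳 hP)
    (eq_top_iff.2 fun v _ => ⟨1, fun r hr => by
      rw [pow_one] at hr
      obtain ⟨w, rfl⟩ := quotMk_surjective 𝒜 𝒳 hP v
      rw [← map_smul]
      exact LinearMap.mem_ker.1 ((ker_quotMk 𝒜 𝒳 hP).ge (htor r hr w))⟩)
    (by
      rintro k hk _ ⟨w, hw, rfl⟩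
      exact (Submodule.Quotient.mk_eq_zero _).2 (hzero k hk w hw))
    (φ := φ') (π := quotMk 𝒜 XX.gr hrh)
    hφ (quotMk_grHom 𝒜 XX.gr hrh) hinj
    (fun b => SetLike.ext_iff.1 (ker_quotMk 𝒜 XX.gr hrh) b)
    (quotMk_surjective 𝒜 XX.gr hrh)
    (fun c hc v => by
      obtain ⟨w, rfl⟩ := quotMk_surjective 𝒜 XX.gr hrh v
      rw [← map_smul]
      exact LinearMap.mem_ker.1 ((ker_quotMk 𝒜 XX.gr hrh).ge (hkill c hc w)))
    (E : GrLC.StarInjRes 𝒜 XX.gr)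
  refine ⟨Q, fun n hn => ?_, h2, fun i => (pieces_finite_vanish hpos a ha i XX (E : GrLC.StarInjRes 𝒜 XX.gr)).2⟩
  have h := h1 n hn
  have e : qlen (GrLC.deg0 𝒜) ↥(GrLC.comp 𝒜 G.gr n) =
      qlen (GrLC.deg0 𝒜) ↥((GrLC.comp 𝒜 𝒳 n).map ((LinearMap.range φ).mkQ.restrictScalars (GrLC.deg0 𝒜))) :=
    qlen_congr
      { toFun := fun x => ⟨x.1, by obtain ⟨w, hw, hwx⟩ := x.2; exact ⟨w, hw, hwx⟩⟩
        invFun := fun x => ⟨x.1, by obtain ⟨w, hw, hwx⟩ := x.2; exact ⟨w, hw, hwx⟩⟩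
        left_inv := fun x => rfl
        right_inv := fun x => rfl
        map_add' := fun x y => rfl
        map_smul' := fun c x => rfl }
  rw [← e]
  exact h

/-- The length of an image piece over the base. -/
theorem qlen_image {A : Type u} [CommRing A] (c : A →+* GrLC.deg0 𝒜) (hc : Function.Surjective c)
    {M : Type u} [AddCommGroup M] [Module A M] (N1 N2 : Submodule A M) (T : Submodule R X) (n : ℤ)
    (f : N1 →+ X) (hf : ∀ (r : A) (x : N1), f (r • x) = (c r : R) • f x)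
    (hfm : ∀ x, f x ∈ 𝒳 n) (hfs : ∀ y ∈ 𝒳 n, ∃ x, f x = y)
    (hker : ∀ x : N1, f x ∈ T ↔ (x : M) ∈ N2) :
    Module.length (GrLC.deg0 𝒜) ↥((GrLC.comp 𝒜 𝒳 n).map (T.mkQ.restrictScalars (GrLC.deg0 𝒜))) =
      Module.length A ↥(N1.map N2.mkQ) := by
  let W := (GrLC.comp 𝒜 𝒳 n).map (T.mkQ.restrictScalars (GrLC.deg0 𝒜))
  letI : Algebra A (GrLC.deg0 𝒜) := c.toAlgebra
  letI : Module A W := Module.compHom W c
  haveI : IsScalarTower A (GrLC.deg0 𝒜) W := IsScalarTower.of_algebraMap_smul fun r w => rfl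
  let ψ : N1 →ₗ[A] W :=
    { toFun := fun x => ⟨T.mkQ (f x), f x, hfm x, rfl⟩
      map_add' := fun x y => Subtype.ext (by
        show T.mkQ (f (x + y)) = T.mkQ (f x) + T.mkQ (f y)
        rw [map_add, map_add])
      map_smul' := fun r x => Subtype.ext (by
        show T.mkQ (f (r • x)) = (c r : R) • T.mkQ (f x)
        rw [hf, map_smul]) }
  have hψs : Function.Surjective ψ := by
    rintro ⟨_, w, hw, rfl⟩
    obtain ⟨x, rfl⟩ := hfs w hw
    exact ⟨x, rfl⟩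
  have hk : LinearMap.ker ψ = LinearMap.ker (N2.mkQ ∘ₗ N1.subtype) := by
    ext x
    rw [LinearMap.mem_ker, LinearMap.mem_ker, LinearMap.comp_apply, Submodule.mkQ_apply,
      Submodule.Quotient.mk_eq_zero]
    exact ⟨fun h => (hker x).1 ((Submodule.Quotient.mk_eq_zero T).1 (congrArg Subtype.val h)),
      fun h => Subtype.ext ((Submodule.Quotient.mk_eq_zero T).2 ((hker x).2 h))⟩
  have e1 : W ≃ₗ[A] ↥(LinearMap.range (N2.mkQ ∘ₗ N1.subtype)) :=
    (ψ.quotKerEquivOfSurjective hψs).symm.trans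
      ((Submodule.quotEquivOfEq _ _ hk).trans (N2.mkQ ∘ₗ N1.subtype).quotKerEquivRange)
  have hlW : Module.length A W = Module.length (GrLC.deg0 𝒜) W :=
    Module.length_eq_of_surjective (R := GrLC.deg0 𝒜) (S := A) (M := W) hc
  show Module.length (GrLC.deg0 𝒜) W = _
  rw [← hlW, e1.length_eq, LinearMap.range_comp, Submodule.range_subtype]

/-- Layers of a filtration. -/
theorem length_layer {A : Type u} [CommRing A] {M : Type u} [AddCommGroup M] [Module A M] (N1 N2 : Submodule A M)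
    (hle : N2 ≤ N1) (hne : Module.length A (M ⧸ N2) ≠ ⊤) :
    ((Module.length A (M ⧸ N2)).toNat : ℚ) - ((Module.length A (M ⧸ N1)).toNat : ℚ) =
      ((Module.length A ↥(N1.map N2.mkQ)).toNat : ℚ) := by
  have hsum := Module.length_eq_add_of_exact (N1.map N2.mkQ).subtype (N1.map N2.mkQ).mkQ Subtype.val_injective
    (Submodule.mkQ_surjective _) (LinearMap.exact_subtype_mkQ _)
  rw [(Submodule.quotientQuotientEquivQuotient N2 N1 hle).length_eq] at hsum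
  rw [hsum] at hne
  obtain ⟨hne2, hne3⟩ := WithTop.add_ne_top.1 hne
  rw [hsum, ENat.toNat_add hne2 hne3]
  push_cast
  ring

/-- The arithmetic. -/
theorem formula (S : ℕ → ℚ) (L : ℕ → ℚ) (P Q : Polynomial ℚ) (B : ℕ)
    (hstep : ∀ k, S (k + 1) + L (k + 1) = S k + L k + Q.eval (k : ℚ))
    (hbig : ∀ k, B ≤ k → S k + L k = P.eval (k : ℚ)) : ∀ k, S k + L k = P.eval (k : ℚ) := by
  have hPQ : P.comp (Polynomial.X + 1) - P = Q := by
    refine Polynomial.eq_of_infinite_eval_eq _ _ (Set.Infinite.mono (s := Set.range fun k : ℕ => ((B + k : ℕ) : ℚ)) ?_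
      (Set.infinite_range_of_injective fun x y h => by simpa using h))
    rintro _ ⟨k, rfl⟩
    show Polynomial.eval _ _ = Q.eval _
    have h1 := hstep (B + k)
    rw [hbig _ (by omega), hbig _ (by omega)] at h1
    rw [Polynomial.eval_sub, Polynomial.eval_comp, Polynomial.eval_add, Polynomial.eval_X, Polynomial.eval_one]
    push_cast at h1 ⊢
    linarith
  intro k
  induction h : B - k using Nat.strong_induction_on generalizing k with
  | _ j ih =>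
    by_cases hk : B ≤ k
    · exact hbig k hk
    have h1 := ih _ (by omega) (k + 1) rfl
    have h2 := hstep k
    have h3 := congrArg (Polynomial.eval (k : ℚ)) hPQ
    rw [Polynomial.eval_sub, Polynomial.eval_comp, Polynomial.eval_add, Polynomial.eval_X, Polynomial.eval_one] at h3
    push_cast at h1 h2 h3
    linarith

end Groth.Agent.GrRedChiLib
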