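import Mathlib
import Groth.Agent.GrRedChiLib.Assemble
import Groth.Agent.InjHullLib.Matlis
import Groth.Agent.LocCohLib.Cd
import Groth.Prelude.Def_Rees
import Groth.Prelude.Def_ReesMod
import Groth.Prelude.Def_GrSyz

/-!
# The Serre type formula for the Rees module
-/

set_option autoImplicit false
set_option linter.style.haveILetI false
set_option linter.unusedSectionVars false
set_option backward.isDefEq.respectTransparency false
set_option maxHeartbeats 800000
set_option synthInstance.maxHeartbeats 100000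
universe u

open DirectSum GrInjLib Groth.Agent.GrCoreLib Polynomial

namespace Groth.Agent.GrRedChiLib

variable {A : Type u} [CommRing A] (I : Ideal A) (M : Type u) [AddCommGroup M] [Module A M]


theorem coeff_of_mem {n : ℕ} {x : (Rees.powFilt I M).submodule} (hx : x ∈ (Rees.mdegZ (Rees.powFilt I M)) (n : ℤ)) {m : ℕ} (hm : m ≠ n) :
    (x : PolynomialModule A M).coeff m = 0 :=
  (Rees.mem_mdegZ_iff (Rees.powFilt I M) n x).1 hx m (by exact_mod_cast hm)

theorem coeff_proj (g : ℤ) (x : (Rees.powFilt I M).submodule) (m : ℕ) :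
    ((proj (Rees.mdegZ (Rees.powFilt I M)) g x : (Rees.powFilt I M).submodule) : PolynomialModule A M).coeff m =
      if (m : ℤ) = g then (x : PolynomialModule A M).coeff m else 0 := by
  induction x using DirectSum.Decomposition.inductionOn (Rees.mdegZ (Rees.powFilt I M)) with
  | zero => simp
  | @homogeneous i y =>
    by_cases h : i = g
    · subst h
      rw [proj_of_mem (Rees.mdegZ (Rees.powFilt I M)) y.2]
      split_ifs with hm
      · rfl
      · exact (Rees.mem_mdegZ_iff (Rees.powFilt I M) i y).1 y.2 m hm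
    · rw [proj_of_mem_ne (Rees.mdegZ (Rees.powFilt I M)) y.2 h]
      split_ifs with hm
      · rw [(Rees.mem_mdegZ_iff (Rees.powFilt I M) i y).1 y.2 m (fun e => h (e.symm.trans hm))]
        simp
      · simp
  | add a b ha hb =>
    rw [map_add, Submodule.coe_add, PolynomialModule.coeff_add, Finsupp.add_apply, ha, hb, Submodule.coe_add,
      PolynomialModule.coeff_add, Finsupp.add_apply]
    split_ifs <;> simp

/-- The elements without constant term. -/
def posSub : Submodule ↥(reesAlgebra I) (Rees.powFilt I M).submodule where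
  carrier := {x | (x : PolynomialModule A M).coeff 0 = 0}
  zero_mem' := by simp
  add_mem' {x y} hx hy := by
    show ((x + y : (Rees.powFilt I M).submodule) : PolynomialModule A M).coeff 0 = 0
    rw [Submodule.coe_add, PolynomialModule.coeff_add, Finsupp.add_apply, hx, hy, add_zero]
  smul_mem' c x hx := by
    show ((c • x : (Rees.powFilt I M).submodule) : PolynomialModule A M).coeff 0 = 0
    rw [Submodule.coe_smul, Subalgebra.smul_def, PolynomialModule.smul_apply, Finset.Nat.antidiagonal_zero,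
      Finset.sum_singleton]
    change (c : A[X]).coeff 0 • (x : PolynomialModule A M).coeff 0 = 0
    rw [hx, smul_zero]

theorem posSub_homogeneous : (posSub I M).IsHomogeneous (Rees.mdegZ (Rees.powFilt I M)) := by
  intro g x hx
  show ((proj (Rees.mdegZ (Rees.powFilt I M)) g x : (Rees.powFilt I M).submodule) : PolynomialModule A M).coeff 0 = 0
  rw [coeff_proj]
  split_ifs
  · exact hx
  · rfl

/-- Division by the variable. -/
noncomputable def shiftDown : (posSub I M) →ₗ[↥(reesAlgebra I)] (Rees.powFilt I M).submodule where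
  toFun x := ⟨PolynomialModule.ofCoeff A (((x : (Rees.powFilt I M).submodule) : PolynomialModule A M).coeff.comapDomain Nat.succ
      Nat.succ_injective.injOn), fun m => by
    rw [PolynomialModule.coeff_ofCoeff, Finsupp.comapDomain_apply]
    exact (Rees.powFilt I M).mono m ((x : (Rees.powFilt I M).submodule).2 (m + 1))⟩
  map_add' x y := Subtype.ext <| PolynomialModule.ext <| Finsupp.ext fun m => by
    simp [Finsupp.comapDomain_apply]
  map_smul' c x := Subtype.ext <| PolynomialModule.ext <| Finsupp.ext fun m => by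
    show ((c : A[X]) • ((x : (Rees.powFilt I M).submodule) : PolynomialModule A M)).coeff (m + 1) =
      ((c : A[X]) • PolynomialModule.ofCoeff A (((x : (Rees.powFilt I M).submodule) : PolynomialModule A M).coeff.comapDomain
        Nat.succ Nat.succ_injective.injOn)).coeff m
    rw [PolynomialModule.smul_apply, PolynomialModule.smul_apply, Finset.Nat.antidiagonal_succ', Finset.sum_cons,
      Finset.sum_map]
    rw [show ((x : (Rees.powFilt I M).submodule) : PolynomialModule A M).coeff 0 = 0 from x.2, smul_zero, zero_add]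
    rfl

theorem coeff_shiftDown (x : posSub I M) (m : ℕ) :
    (shiftDown I M x : PolynomialModule A M).coeff m = ((x : (Rees.powFilt I M).submodule) : PolynomialModule A M).coeff (m + 1) := rfl

theorem shiftDown_injective : Function.Injective (shiftDown I M) := fun x y h => by
  refine Subtype.ext <| Subtype.ext <| PolynomialModule.ext <| Finsupp.ext fun m => ?_
  cases m with
  | zero => exact (show _ = (0 : M) from x.2).trans (show _ = (0 : M) from y.2).symm
  | succ m => rw [← coeff_shiftDown, ← coeff_shiftDown, h]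

theorem mem_range_shiftDown (y : (Rees.powFilt I M).submodule) :
    y ∈ LinearMap.range (shiftDown I M) ↔
      ∀ m, (y : PolynomialModule A M).coeff m ∈ (I ^ (m + 1) • ⊤ : Submodule A M) := by
  constructor
  · rintro ⟨x, rfl⟩ m
    exact (x : (Rees.powFilt I M).submodule).2 (m + 1)
  · intro h
    let c : ℕ →₀ M := (y : PolynomialModule A M).coeff.mapDomain Nat.succ
    have hc0 : c 0 = 0 := Finsupp.mapDomain_notin_range _ _ (by simp)
    have hcs : ∀ m, c (m + 1) = (y : PolynomialModule A M).coeff m := fun m =>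
      Finsupp.mapDomain_apply Nat.succ_injective _ _
    refine ⟨⟨⟨PolynomialModule.ofCoeff A c, fun m => ?_⟩, hc0⟩, ?_⟩
    · cases m with
      | zero => rw [PolynomialModule.coeff_ofCoeff, hc0]; exact zero_mem _
      | succ m => rw [PolynomialModule.coeff_ofCoeff, hcs]; exact h m
    · exact Subtype.ext <| PolynomialModule.ext <| Finsupp.ext fun m => hcs m

/-- The degree zero constants. -/
noncomputable def const : A →+* GrLC.deg0 (Rees.degZ (reesAlgebra I)) :=
  (algebraMap A ↥(reesAlgebra I)).codRestrict (GrLC.deg0 (Rees.degZ (reesAlgebra I))) fun r => by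
    show algebraMap A ↥(reesAlgebra I) r ∈ Rees.degZ (reesAlgebra I) 0
    rw [Rees.mem_degZ_iff]
    intro m hm
    show (Polynomial.C r).coeff m = 0
    rw [Polynomial.coeff_C, if_neg (by exact_mod_cast hm)]

theorem coeff_deg0 (c : GrLC.deg0 (Rees.degZ (reesAlgebra I))) {m : ℕ} (hm : m ≠ 0) :
    ((c : ↥(reesAlgebra I)) : A[X]).coeff m = 0 :=
  (Rees.mem_degZ_iff _ 0 (c : ↥(reesAlgebra I))).1 c.2 m (by exact_mod_cast hm)

theorem const_surjective : Function.Surjective (const I) := fun c =>
  ⟨((c : ↥(reesAlgebra I)) : A[X]).coeff 0, Subtype.ext <| Subtype.ext <| Polynomial.ext fun m => by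
    show (Polynomial.C (((c : ↥(reesAlgebra I)) : A[X]).coeff 0)).coeff m = _
    rw [Polynomial.coeff_C]
    split_ifs with hm
    · rw [hm]
    · exact (coeff_deg0 I c hm).symm⟩

/-- The cofinite ideal of degree zero. -/
noncomputable def base : Ideal (GrLC.deg0 (Rees.degZ (reesAlgebra I))) := I.map (const I)

theorem coeff_zero_mem_of_base {c : GrLC.deg0 (Rees.degZ (reesAlgebra I))} (hc : c ∈ base I) :
    ((c : ↥(reesAlgebra I)) : A[X]).coeff 0 ∈ I := by
  obtain ⟨r, hr, rfl⟩ := (Ideal.mem_map_iff_of_surjective _ (const_surjective I)).1 hc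
  show (Polynomial.C r).coeff 0 ∈ I
  rwa [Polynomial.coeff_C_zero]

theorem irrel_eq : (GrSyz.irrel (Rees.degZ (reesAlgebra I))).toIdeal =
    Ideal.span (⋃ n ∈ Set.Ioi (0 : ℤ), (Rees.degZ (reesAlgebra I) n : Set ↥(reesAlgebra I))) := by
  refine congrArg Ideal.span (Set.ext fun x => ?_)
  simp only [Set.mem_iUnion, Set.mem_Ioi, exists_prop]
  rfl

theorem irrel_std : (GrSyz.irrel (Rees.degZ (reesAlgebra I))).toIdeal =
    Ideal.span ((Rees.degZ (reesAlgebra I) 1 : Submodule A ↥(reesAlgebra I)) : Set ↥(reesAlgebra I)) := by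
  rw [irrel_eq]
  refine le_antisymm (Ideal.span_le.2 ?_) (Ideal.span_mono (Set.subset_biUnion_of_mem (u := fun n : ℤ =>
    ((Rees.degZ (reesAlgebra I) n : Submodule A ↥(reesAlgebra I)) : Set ↥(reesAlgebra I))) (Set.mem_Ioi.2 one_pos)))
  intro x hx
  simp only [Set.mem_iUnion, Set.mem_Ioi, exists_prop] at hx
  obtain ⟨n, hn, hxn⟩ := hx
  obtain ⟨k, rfl⟩ : ∃ k : ℕ, n = ((k + 1 : ℕ) : ℤ) := ⟨(n - 1).toNat, by omega⟩
  have hxk := (Rees.mem_degZ_iff _ _ x).1 hxn
  suffices key : ∀ (r : A) (hr : r ∈ I ^ (k + 1)), (⟨monomial (k + 1) r, reesAlgebra.monomial_mem.2 hr⟩ : ↥(reesAlgebra I)) ∈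
      Ideal.span ((Rees.degZ (reesAlgebra I) 1 : Submodule A ↥(reesAlgebra I)) : Set ↥(reesAlgebra I)) by
    have := key _ (x.2 (k + 1))
    have he : x = ⟨monomial (k + 1) ((x : A[X]).coeff (k + 1)), reesAlgebra.monomial_mem.2 (x.2 (k + 1))⟩ :=
      Subtype.ext <| Polynomial.ext fun m => by
        rw [Polynomial.coeff_monomial]
        split_ifs with hm
        · rw [hm]
        · exact hxk m (by exact_mod_cast Ne.symm hm)
    rw [SetLike.mem_coe, he]
    exact this
  intro r hr
  have hr' := hr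
  rw [pow_succ'] at hr'
  refine Submodule.mul_induction_on'
    (C := fun z _ => ∀ hz : z ∈ I ^ (k + 1), (⟨monomial (k + 1) z, reesAlgebra.monomial_mem.2 hz⟩ : ↥(reesAlgebra I)) ∈
      Ideal.span ((Rees.degZ (reesAlgebra I) 1 : Submodule A ↥(reesAlgebra I)) : Set ↥(reesAlgebra I))) ?_ ?_ hr' hr
  · intro a ha b hb hab
    have h1 : (⟨monomial 1 a, reesAlgebra.monomial_mem.2 (by rwa [pow_one])⟩ : ↥(reesAlgebra I)) ∈
        (Rees.degZ (reesAlgebra I) 1 : Submodule A ↥(reesAlgebra I)) := by
      rw [Rees.mem_degZ_iff]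
      intro m hm
      show (monomial 1 a).coeff m = 0
      rw [Polynomial.coeff_monomial, if_neg (fun h => hm (by rw [← h]; rfl))]
    have : (⟨monomial (k + 1) (a * b), reesAlgebra.monomial_mem.2 hab⟩ : ↥(reesAlgebra I)) =
        ⟨monomial k b, reesAlgebra.monomial_mem.2 hb⟩ * ⟨monomial 1 a, reesAlgebra.monomial_mem.2 (by rwa [pow_one])⟩ :=
      Subtype.ext (by simp [Polynomial.monomial_mul_monomial, mul_comm])
    rw [this]
    exact Ideal.mul_mem_left _ _ (Ideal.subset_span h1)
  · intro z hz w hw iz iw hzw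
    rw [← pow_succ'] at hz hw
    have : (⟨monomial (k + 1) (z + w), reesAlgebra.monomial_mem.2 hzw⟩ : ↥(reesAlgebra I)) =
        ⟨monomial (k + 1) z, reesAlgebra.monomial_mem.2 hz⟩ + ⟨monomial (k + 1) w, reesAlgebra.monomial_mem.2 hw⟩ :=
      Subtype.ext (by simp)
    rw [this]
    exact add_mem (iz hz) (iw hw)

theorem irrel_le_coeff_zero {x : ↥(reesAlgebra I)} (hx : x ∈ (GrSyz.irrel (Rees.degZ (reesAlgebra I))).toIdeal) :
    (x : A[X]).coeff 0 = 0 := by
  rw [irrel_std] at hx
  induction hx using Submodule.span_induction with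
  | mem y hy => exact (Rees.mem_degZ_iff _ _ y).1 hy 0 (by simp)
  | zero => simp
  | add p q _ _ hp hq => simp [hp, hq]
  | smul c p _ hp => simp [hp, Polynomial.mul_coeff_zero]

theorem eq_zero_of_neg : ∀ n : ℤ, n < 0 → ∀ x ∈ Rees.degZ (reesAlgebra I) n, x = 0 := fun n hn x hx =>
  Subtype.ext <| Polynomial.ext fun m => by
    rw [(Rees.mem_degZ_iff _ _ x).1 hx m (by omega)]
    rfl

variable [IsNoetherianRing A] [Module.Finite A M]

theorem finite_submodule : Module.Finite ↥(reesAlgebra I) (Rees.powFilt I M).submodule :=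
  Module.Finite.iff_fg.2 ((Ideal.Filtration.submodule_fg_iff_stable (Rees.powFilt I M) fun i => IsNoetherian.noetherian _).2
    (Ideal.stableFiltration_stable I ⊤))

theorem length_quot_pow_ne_top [IsLocalRing A] (hI : I.radical = IsLocalRing.maximalIdeal A) (n : ℕ) :
    Module.length A (M ⧸ (I ^ n • ⊤ : Submodule A M)) ≠ ⊤ := by
  obtain ⟨K, hK⟩ := Ideal.exists_pow_le_of_le_radical_of_fg hI.ge (IsNoetherian.noetherian _)
  haveI : IsArtinianRing (A ⧸ I ^ n) := by
    have hfl := InjHullLib.isFiniteLength_quot (I := I ^ n) (n := K * n) (by rw [pow_mul]; exact Ideal.pow_right_mono hK n)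
    haveI : IsArtinian A (A ⧸ I ^ n) := ((isFiniteLength_iff_isNoetherian_isArtinian).1 hfl).2
    exact (isArtinian_of_tower A inferInstance : IsArtinian (A ⧸ I ^ n) (A ⧸ I ^ n))
  refine length_ne_top_of_kill (I ^ n) fun c hc v => ?_
  obtain ⟨w, rfl⟩ := Submodule.Quotient.mk_surjective _ v
  rw [← Submodule.Quotient.mk_smul, Submodule.Quotient.mk_eq_zero]
  exact Submodule.smul_mem_smul hc Submodule.mem_top

theorem artinian_base [IsLocalRing A] (hI : I.radical = IsLocalRing.maximalIdeal A) :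
    IsArtinianRing (GrLC.deg0 (Rees.degZ (reesAlgebra I)) ⧸ base I) := by
  obtain ⟨K, hK⟩ := Ideal.exists_pow_le_of_le_radical_of_fg hI.ge (IsNoetherian.noetherian _)
  haveI : IsArtinianRing (A ⧸ I) := by
    have hfl := InjHullLib.isFiniteLength_quot hK
    haveI : IsArtinian A (A ⧸ I) := ((isFiniteLength_iff_isNoetherian_isArtinian).1 hfl).2
    exact (isArtinian_of_tower A inferInstance : IsArtinian (A ⧸ I) (A ⧸ I))
  refine Function.Surjective.isArtinianRing (f := Ideal.Quotient.lift I ((Ideal.Quotient.mk (base I)).comp (const I))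
    fun r hr => Ideal.Quotient.eq_zero_iff_mem.2 (Ideal.mem_map_of_mem _ hr)) fun y => ?_
  obtain ⟨c, rfl⟩ := Ideal.Quotient.mk_surjective y
  obtain ⟨r, rfl⟩ := const_surjective I c
  exact ⟨Ideal.Quotient.mk I r, rfl⟩


theorem shiftDown_deg (g : ℤ) (x : posSub I M)
    (hx : (x : (Rees.powFilt I M).submodule) ∈ Rees.mdegZ (Rees.powFilt I M) g) :
    shiftDown I M x ∈ Rees.mdegZ (Rees.powFilt I M) (g + -1) := by
  rw [Rees.mem_mdegZ_iff]
  intro m hm
  rw [coeff_shiftDown]
  exact (Rees.mem_mdegZ_iff (Rees.powFilt I M) g _).1 hx (m + 1) (by omega)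

theorem smul_mem_range_shiftDown {c : GrLC.deg0 (Rees.degZ (reesAlgebra I))} (hc : c ∈ base I)
    (w : (Rees.powFilt I M).submodule) : (c : ↥(reesAlgebra I)) • w ∈ LinearMap.range (shiftDown I M) := by
  rw [mem_range_shiftDown]
  intro m
  rw [Submodule.coe_smul, Subalgebra.smul_def, PolynomialModule.smul_apply]
  refine Submodule.sum_mem _ fun p hp => ?_
  replace hp : p.1 + p.2 = m := Finset.HasAntidiagonal.mem_antidiagonal.1 hp
  by_cases h0 : p.1 = 0
  · rw [h0, show p.2 = m by omega, pow_succ' I m, mul_smul]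
    exact Submodule.smul_mem_smul (coeff_zero_mem_of_base I hc) (w.2 m)
  · show ((c : ↥(reesAlgebra I)) : A[X]).coeff p.1 • _ ∈ _
    rw [coeff_deg0 I c h0, zero_smul]
    exact zero_mem _

theorem smul_mem_posSub {r : ↥(reesAlgebra I)} (hr : r ∈ (GrSyz.irrel (Rees.degZ (reesAlgebra I))).toIdeal)
    (w : (Rees.powFilt I M).submodule) : r • w ∈ posSub I M := by
  show ((r • w : (Rees.powFilt I M).submodule) : PolynomialModule A M).coeff 0 = 0
  rw [Submodule.coe_smul, Subalgebra.smul_def, PolynomialModule.smul_apply, Finset.Nat.antidiagonal_zero,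
    Finset.sum_singleton]
  show (r : A[X]).coeff 0 • _ = 0
  rw [irrel_le_coeff_zero I hr, zero_smul]

theorem mem_posSub (k : ℤ) (hk : 1 ≤ k) (w : (Rees.powFilt I M).submodule)
    (hw : w ∈ Rees.mdegZ (Rees.powFilt I M) k) : w ∈ posSub I M :=
  (Rees.mem_mdegZ_iff (Rees.powFilt I M) k w).1 hw 0 (by omega)

/-- The inclusion of a layer. -/
noncomputable def layer (k : ℕ) : ↥(I ^ k • ⊤ : Submodule A M) →+ (Rees.powFilt I M).submodule :=
  (AddSubgroup.subtype _).comp (Rees.mdegEquiv (Rees.powFilt I M) k).toAddMonoidHom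

theorem coeff_layer (k m : ℕ) (x : ↥(I ^ k • ⊤ : Submodule A M)) :
    (layer I M k x : PolynomialModule A M).coeff m = if k = m then (x : M) else 0 := by
  show (PolynomialModule.single A k (x : M)).coeff m = _
  rw [PolynomialModule.coeff_single, Finsupp.single_apply]

theorem layer_smul (k : ℕ) (r : A) (x : ↥(I ^ k • ⊤ : Submodule A M)) :
    layer I M k (r • x) = (const I r : ↥(reesAlgebra I)) • layer I M k x := by
  show _ = algebraMap A ↥(reesAlgebra I) r • _
  rw [algebraMap_smul]
  exact Rees.mdegEquiv_smul (Rees.powFilt I M) k r x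

theorem layer_mem (k : ℕ) (x : ↥(I ^ k • ⊤ : Submodule A M)) :
    layer I M k x ∈ Rees.mdegZ (Rees.powFilt I M) (k : ℤ) :=
  (Rees.mem_mdegZ_natCast_iff (Rees.powFilt I M) k _).2 (Rees.mdegEquiv (Rees.powFilt I M) k x).2

theorem layer_surj (k : ℕ) (y : (Rees.powFilt I M).submodule) (hy : y ∈ Rees.mdegZ (Rees.powFilt I M) (k : ℤ)) :
    ∃ x, layer I M k x = y := by
  refine ⟨⟨(y : PolynomialModule A M).coeff k, y.2 k⟩, Subtype.ext <| PolynomialModule.ext <| Finsupp.ext fun m => ?_⟩
  rw [coeff_layer]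
  split_ifs with hm
  · rw [hm]
  · exact (coeff_of_mem I M hy (Ne.symm hm)).symm

theorem layer_mem_range_iff (k : ℕ) (x : ↥(I ^ k • ⊤ : Submodule A M)) :
    layer I M k x ∈ LinearMap.range (shiftDown I M) ↔ (x : M) ∈ (I ^ (k + 1) • ⊤ : Submodule A M) := by
  rw [mem_range_shiftDown]
  constructor
  · intro h
    have := h k
    rwa [coeff_layer, if_pos rfl] at this
  · intro h m
    rw [coeff_layer]
    split_ifs with hm
    · subst hm; exact h
    · exact zero_mem _

theorem qlen_layer [IsLocalRing A] (hI : I.radical = IsLocalRing.maximalIdeal A) (k : ℕ) :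
    ((Module.length A (M ⧸ (I ^ (k + 1) • (⊤ : Submodule A M)))).toNat : ℚ) -
        ((Module.length A (M ⧸ (I ^ k • (⊤ : Submodule A M)))).toNat : ℚ) =
      qlen (GrLC.deg0 (Rees.degZ (reesAlgebra I))) ↥((GrLC.comp (Rees.degZ (reesAlgebra I)) (Rees.mdegZ (Rees.powFilt I M)) (k : ℤ)).map
        ((LinearMap.range (shiftDown I M)).mkQ.restrictScalars (GrLC.deg0 (Rees.degZ (reesAlgebra I))))) := by
  haveI := finite_submodule I M
  rw [length_layer (I ^ k • ⊤ : Submodule A M) (I ^ (k + 1) • ⊤) (Submodule.smul_mono_left (Ideal.pow_le_pow_right (Nat.le_succ k)))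
    (length_quot_pow_ne_top I M hI (k + 1)), qlen,
    qlen_image (const I) (const_surjective I) (I ^ k • ⊤ : Submodule A M) (I ^ (k + 1) • ⊤)
      (LinearMap.range (shiftDown I M)) (k : ℤ) (layer I M k) (layer_smul I M k) (layer_mem I M k) (layer_surj I M k)
      (layer_mem_range_iff I M k)]

/-- The main statement. -/
theorem main [IsLocalRing A] (hI : I.radical = IsLocalRing.maximalIdeal A) (P : Polynomial ℚ)
    (hP : ∃ N : ℕ, ∀ n : ℕ, N ≤ n →
      P.eval (n : ℚ) = ((Module.length A (M ⧸ (I ^ n • (⊤ : Submodule A M)))).toNat : ℚ))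
    (E : GrLC.StarInjRes (Rees.degZ (reesAlgebra I)) (Rees.mdegZ (Rees.powFilt I M))) (n : ℕ) :
    (∀ i : ℕ, IsFiniteLength (GrLC.deg0 (Rees.degZ (reesAlgebra I))) (E.Hcomp (GrSyz.irrel (Rees.degZ (reesAlgebra I))) i (n : ℤ))) ∧
      Set.Finite {i : ℕ | E.Hcomp (GrSyz.irrel (Rees.degZ (reesAlgebra I))) i (n : ℤ) ≠ ⊥} ∧
      P.eval (n : ℚ) - ((Module.length A (M ⧸ (I ^ n • (⊤ : Submodule A M)))).toNat : ℚ) =
        finsum (fun i : ℕ => (-1 : ℚ) ^ i *
          ((Module.length (GrLC.deg0 (Rees.degZ (reesAlgebra I))) (E.Hcomp (GrSyz.irrel (Rees.degZ (reesAlgebra I))) i (n : ℤ))).toNat : ℚ)) := by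
  classical
  haveI := finite_submodule I M
  haveI := artinian_base I hI
  obtain ⟨S, hS⟩ : (GrSyz.irrel (Rees.degZ (reesAlgebra I))).toIdeal.FG := IsNoetherian.noetherian _
  have hN : ∀ (X : GrLC.GMod.{u} (Rees.degZ (reesAlgebra I))) (E : GrLC.StarInjRes (Rees.degZ (reesAlgebra I)) X.gr)
      (i : ℕ), S.card < i → ∀ g, E.Hcomp (GrSyz.irrel (Rees.degZ (reesAlgebra I))) i g = ⊥ := fun X E i hi g => by
    obtain ⟨e⟩ := exists_H_equiv_locCoh E (GrSyz.irrel (Rees.degZ (reesAlgebra I))) i
    haveI := LocCohLib.subsingleton_of_card_lt S (ModuleCat.of ↥(reesAlgebra I) X.carrier) i hi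
    haveI : Subsingleton ((localCohomology (GrSyz.irrel (Rees.degZ (reesAlgebra I))).toIdeal i).obj
        (ModuleCat.of ↥(reesAlgebra I) X.carrier) : Type u) := by
      rw [← hS]; infer_instance
    haveI := e.toEquiv.subsingleton
    exact (Submodule.eq_bot_iff _).2 fun y _ => Subsingleton.elim y 0
  have h0 := exists_diff_of_shift (R := ↥(reesAlgebra I)) (σ := Submodule A ↥(reesAlgebra I)) (𝒜 := Rees.degZ (reesAlgebra I))
    (X := ↥(Rees.powFilt I M).submodule) (𝒳 := Rees.mdegZ (Rees.powFilt I M))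
    (eq_zero_of_neg I) (GrSyz.irrel (Rees.degZ (reesAlgebra I)))
  have h1 := h0 (irrel_eq I)
  have h3 := h1 (irrel_std I) hN (base I)
  have h4 := h3 (posSub I M) (posSub_homogeneous I M)
  have h5 := h4 (shiftDown I M) (shiftDown_deg I M)
  have h6 := h5 (shiftDown_injective I M)
  have h7 := h6 (fun c hc w => smul_mem_range_shiftDown I M hc w)
  have h8 := h7 (fun r hr w => smul_mem_posSub I M hr w)
  have h9 := h8 (mem_posSub I M) E
  obtain ⟨Q, hQ, hfl, hvan⟩ := h9
  obtain ⟨N0, hN0⟩ := hP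
  choose r hr using hvan
  let B := N0 + (Finset.range (S.card + 1)).sup fun i => (r i).toNat
  have hall := formula (fun k : ℕ => sumH E (GrSyz.irrel (Rees.degZ (reesAlgebra I))) S.card (k : ℤ))
    (fun k : ℕ => ((Module.length A (M ⧸ (I ^ k • (⊤ : Submodule A M)))).toNat : ℚ)) P Q B (fun k => by
      have h1 := hQ (k : ℤ) (Int.natCast_nonneg k)
      have h2 := qlen_layer I M hI k
      push_cast at h1 ⊢
      linarith) (fun k hk => by
      have : sumH E (GrSyz.irrel (Rees.degZ (reesAlgebra I))) S.card (k : ℤ) = 0 := Finset.sum_eq_zero fun i hi => by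
        have h1 : (r i).toNat ≤ B := le_trans (Finset.le_sup (f := fun i => (r i).toNat) hi) (Nat.le_add_left _ _)
        rw [qlen_eq_zero_of_bot (hr i _ (by omega)), mul_zero]
      simp only [this, zero_add]
      rw [hN0 k (by omega)]) n
  have hbot : ∀ i, S.card < i → E.Hcomp (GrSyz.irrel (Rees.degZ (reesAlgebra I))) i (n : ℤ) = ⊥ := fun i hi =>
    hN (GrLC.GMod.of (Rees.degZ (reesAlgebra I)) (Rees.powFilt I M).submodule (Rees.mdegZ (Rees.powFilt I M))) E i hi n
  refine ⟨fun i => (Module.length_ne_top_iff).1 (hfl i n (Int.natCast_nonneg n)),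
    (Set.finite_Iic S.card).subset fun i hi => not_lt.1 fun h => hi (hbot i h), ?_⟩
  rw [finsum_eq_sum_of_support_subset (s := Finset.range (S.card + 1))]
  · simp only [sumH, qlen] at hall
    linarith
  · intro i hi
    rw [Finset.coe_range, Set.mem_Iio]
    by_contra hle
    refine hi ?_
    have := hbot i (by omega)
    have hq := qlen_eq_zero_of_bot this
    unfold qlen at hq
    simp only [hq, mul_zero]

end Groth.Agent.GrRedChiLib
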